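import Mathlib
import Groth.Agent.FComplLib.AdicUnit

/-!
# A criterion for being the adic completion of a ring
-/

set_option autoImplicit false

namespace Groth.Agent.ConormalAlgz

open AdicCompletion

universe u

theorem exists_equiv {D C : Type u} [CommRing D] [CommRing C] (I : Ideal D) (f : D →+* C)
    [IsAdicComplete (I.map f) C]
    (hsurj : ∀ (m : ℕ) (c : C), ∃ d, c - f d ∈ (I.map f) ^ m)
    (hinj : ∀ (m : ℕ) (d : D), f d ∈ (I.map f) ^ m → d ∈ I ^ m) :
    ∃ e : C ≃+* AdicCompletion I D, ∀ d, e (f d) = algebraMap D (AdicCompletion I D) d := by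
  let ψ : (m : ℕ) → (D ⧸ I ^ m) →+* C ⧸ (I.map f) ^ m := fun m =>
    Ideal.quotientMap _ f (by rw [← Ideal.map_le_iff_le_comap, Ideal.map_pow])
  have hψ : ∀ m, Function.Bijective (ψ m) := fun m => by
    refine ⟨?_, fun q => ?_⟩
    · rw [injective_iff_map_eq_zero]
      intro q hq
      obtain ⟨d, rfl⟩ := Ideal.Quotient.mk_surjective q
      rw [Ideal.quotientMap_mk, Ideal.Quotient.eq_zero_iff_mem] at hq
      exact Ideal.Quotient.eq_zero_iff_mem.2 (hinj m d hq)
    · obtain ⟨c, rfl⟩ := Ideal.Quotient.mk_surjective q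
      obtain ⟨d, hd⟩ := hsurj m c
      exact ⟨Ideal.Quotient.mk _ d, (Ideal.quotientMap_mk).trans (Ideal.Quotient.eq.2 hd).symm⟩
  let g : (m : ℕ) → C →+* D ⧸ I ^ m := fun m =>
    (RingEquiv.ofBijective (ψ m) (hψ m)).symm.toRingHom.comp (Ideal.Quotient.mk _)
  have hg : ∀ m c, ψ m (g m c) = Ideal.Quotient.mk _ c := fun m c =>
    (RingEquiv.ofBijective (ψ m) (hψ m)).apply_symm_apply _
  have hcomp : ∀ {m n : ℕ} (hle : m ≤ n), (Ideal.Quotient.factorPow I hle).comp (g n) = g m := by
    intro m n hle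
    ext c
    obtain ⟨d, hd⟩ := Ideal.Quotient.mk_surjective (g n c)
    have h := hg n c
    rw [← hd, Ideal.quotientMap_mk, Ideal.Quotient.eq] at h
    apply (hψ m).1
    rw [hg, RingHom.comp_apply, ← hd]
    exact Ideal.Quotient.eq.2 (Ideal.pow_le_pow_right hle h)
  let E := AdicCompletion.liftRingHom I g hcomp
  have hEv : ∀ m c, evalₐ I m (E c) = g m c := fun m c => evalₐ_liftRingHom I g hcomp m c
  have hEf : ∀ d, E (f d) = algebraMap D (AdicCompletion I D) d := fun d => by
    refine AdicCompletion.ext_evalₐ fun m => (hψ m).1 ?_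
    rw [hEv, hg, FComplLib.evalₐ_algebraMap, Ideal.quotientMap_mk]
  refine ⟨RingEquiv.ofBijective E ⟨?_, fun y => ?_⟩, hEf⟩
  · rw [injective_iff_map_eq_zero]
    intro c hc
    refine IsHausdorff.haus (inferInstance : IsHausdorff (I.map f) C) c fun m => ?_
    rw [SModEq.sub_mem, sub_zero, smul_eq_mul, Ideal.mul_top]
    have h := hg m c
    rw [← hEv, hc, _root_.map_zero, _root_.map_zero] at h
    exact Ideal.Quotient.eq_zero_iff_mem.1 h.symm
  · choose d hd using fun m => Ideal.Quotient.mk_surjective (evalₐ I m y)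
    have hev : ∀ {m n : ℕ} (hle : m ≤ n),
        Ideal.Quotient.factorPow I hle (evalₐ I n y) = evalₐ I m y := by
      intro m n hle
      obtain ⟨z, rfl⟩ := AdicCompletion.mk_surjective I D y
      rw [evalₐ_mk, evalₐ_mk]
      refine Ideal.Quotient.eq.2 ?_
      have h := SModEq.sub_mem.1 (z.2 hle)
      rw [smul_eq_mul, Ideal.mul_top] at h
      have := neg_mem h
      rwa [neg_sub] at this
    obtain ⟨c, hc⟩ := IsPrecomplete.prec (inferInstance : IsPrecomplete (I.map f) C)
      (f := fun m => f (d m)) (fun {m n} hle => by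
        rw [SModEq.sub_mem, smul_eq_mul, Ideal.mul_top, ← map_sub, ← Ideal.map_pow]
        refine Ideal.mem_map_of_mem f (Ideal.Quotient.eq.1 ?_)
        rw [hd m, ← hev hle, ← hd n]
        rfl)
    refine ⟨c, AdicCompletion.ext_evalₐ fun m => (hψ m).1 ?_⟩
    rw [hEv, hg, ← hd m, Ideal.quotientMap_mk]
    refine (Ideal.Quotient.eq.2 ?_).symm
    have h := SModEq.sub_mem.1 (hc m)
    rwa [smul_eq_mul, Ideal.mul_top] at h

end Groth.Agent.ConormalAlgz
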