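import Groth.Agent.ConormalAlgz.Compl
import Groth.Agent.ConormalAlgz.Equiv
import Groth.Agent.AdicLib.Basic

/-!
# Algebraization of quotients of a completion with conormal module killed by a power of the ideal
-/

set_option autoImplicit false
set_option linter.style.haveILetI false

namespace Groth.Agent.ConormalAlgz

open AdicCompletion

universe u

variable {B : Type u} [CommRing B] [IsNoetherianRing B] (I : Ideal B)

theorem exists_pow_le_sup_annihilator (J : Ideal (AdicCompletion I B)) (c : ℕ)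
    (hJ : (I.map (algebraMap B (AdicCompletion I B))) ^ c * J ≤ J ^ 2) :
    ∃ M : ℕ, I ^ M ≤ (J ⊔ J.annihilator).comap (algebraMap B (AdicCompletion I B)) := by
  haveI := FComplLib.isNoetherianRing_adicCompletion I
  refine Ideal.exists_pow_le_of_le_radical_of_fg ?_ (IsNoetherian.noetherian I)
  intro g hg
  let Bh := AdicCompletion I B
  let s : Bh := algebraMap B Bh g ^ c
  have hs : ∀ x ∈ J, s * x ∈ J ^ 2 := fun x hx =>
    hJ (Ideal.mul_mem_mul (Ideal.pow_mem_pow (Ideal.mem_map_of_mem _ hg) c) hx)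
  let f : Module.End Bh J := algebraMap Bh (Module.End Bh J) s
  have hrange : LinearMap.range f ≤ J • (⊤ : Submodule Bh J) := by
    rintro _ ⟨x, rfl⟩
    have h : ((f x : J) : Bh) ∈ Submodule.map J.subtype (J • (⊤ : Submodule Bh J)) := by
      rw [Submodule.map_smul'', Submodule.map_subtype_top]
      have := hs x.1 x.2
      rw [pow_two] at this
      exact this
    obtain ⟨y, hy, hyx⟩ := h
    have hyx' : y = f x := J.injective_subtype hyx
    rwa [hyx'] at hy
  obtain ⟨p, hp, -, hcoef, hpf⟩ :=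
    LinearMap.exists_monic_and_natDegree_eq_and_coeff_mem_pow_and_aeval_eq_zero Bh f J hrange
  have hann : p.eval s ∈ J.annihilator := by
    rw [Submodule.mem_annihilator]
    intro x hx
    have h := LinearMap.congr_fun hpf ⟨x, hx⟩
    rw [Polynomial.aeval_algebraMap_apply_eq_algebraMap_eval] at h
    simpa using congrArg Subtype.val h
  have hmem : p.eval s - s ^ p.natDegree ∈ J := by
    rw [Polynomial.eval_eq_sum_range, Finset.sum_range_succ, hp.coeff_natDegree, one_mul,
      add_sub_cancel_right]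
    refine Ideal.sum_mem _ fun k hk => Ideal.mul_mem_right _ _ ?_
    exact Ideal.pow_le_self (by have := Finset.mem_range.1 hk; omega) (hcoef k)
  refine ⟨c * p.natDegree, ?_⟩
  rw [Ideal.mem_comap, map_pow, pow_mul]
  have : s ^ p.natDegree = -(p.eval s - s ^ p.natDegree) + p.eval s := by ring
  rw [show algebraMap B Bh g ^ c = s from rfl, this]
  exact Submodule.add_mem_sup (neg_mem hmem) hann

theorem exists_algebraization (C : Type u) [CommRing C] (π : AdicCompletion I B →+* C)
    (hπ : Function.Surjective π) (c : ℕ)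
    (hJ : (I.map (algebraMap B (AdicCompletion I B))) ^ c * RingHom.ker π ≤ RingHom.ker π ^ 2) :
    ∃ (D : Type u) (_ : CommRing D) (_ : Algebra B D), Algebra.FiniteType B D ∧
      ∀ ID : Ideal D, ID = I.map (algebraMap B D) → ∃ e : C ≃+* AdicCompletion ID D,
        ∀ b : B, e (π (algebraMap B _ b)) = algebraMap D _ (algebraMap B D b) := by
  classical
  haveI := FComplLib.isNoetherianRing_adicCompletion I
  let Bh := AdicCompletion I B
  let ι : B →+* Bh := algebraMap B Bh
  let J : Ideal Bh := RingHom.ker π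
  let J' : Ideal Bh := J.annihilator
  obtain ⟨M, hM⟩ := exists_pow_le_sup_annihilator I J c hJ
  obtain ⟨s, g, hg⟩ := Submodule.fg_iff_exists_fin_generating_family.1 (IsNoetherian.noetherian (I ^ M))
  have hgM : I ^ M ≤ Ideal.span (Set.range g) := hg.ge
  have hgJ : ∀ p, ι (g p) ∈ J ⊔ J' := fun p => hM (hg.le (Submodule.subset_span ⟨p, rfl⟩))
  choose jj hjj jj' hjj' hsum using fun p => Submodule.mem_sup.1 (hgJ p)
  let N := (Bh ⧸ J) × (Bh ⧸ J')
  let φ : Bh →+* N := algebraMap Bh N
  have hφ : ∀ x, φ x = (Ideal.Quotient.mk J x, Ideal.Quotient.mk J' x) := fun x => rfl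
  have hφι : ∀ b, algebraMap B N b = φ (ι b) := fun b => IsScalarTower.algebraMap_apply B Bh N b
  let e : N := (1, 0)
  -- the kernel of `φ`
  have hK : ∀ k, φ k = 0 → ∀ p, ι (g p) * k = 0 := fun k hk p => by
    rw [hφ, Prod.mk_eq_zero, Ideal.Quotient.eq_zero_iff_mem, Ideal.Quotient.eq_zero_iff_mem] at hk
    have h1 : jj' p * k = 0 := Submodule.mem_annihilator.1 (hjj' p) k hk.1
    have h2 : k * jj p = 0 := Submodule.mem_annihilator.1 hk.2 (jj p) (hjj p)
    rw [← hsum p, add_mul, h1, mul_comm, h2, add_zero]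
  have hKr : ∀ k, φ k = 0 → k ∈ Set.range ι := fun k hk =>
    mem_range_of_mul_mem_range I g M hgM k fun p => ⟨0, by rw [_root_.map_zero]; exact (hK k hk p).symm⟩
  have hz : ∀ p, φ (jj' p) = φ (ι (g p)) * e := fun p => by
    rw [hφ, hφ, ← hsum p]
    refine Prod.ext ?_ ?_
    · show Ideal.Quotient.mk J (jj' p) = Ideal.Quotient.mk J (jj p + jj' p) * 1
      rw [mul_one, map_add, Ideal.Quotient.eq_zero_iff_mem.2 (hjj p), zero_add]
    · show Ideal.Quotient.mk J' (jj' p) = Ideal.Quotient.mk J' (jj p + jj' p) * 0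
      rw [mul_zero]
      exact Ideal.Quotient.eq_zero_iff_mem.2 (hjj' p)
  -- the system
  obtain ⟨a, hadef⟩ : ∃ a : Fin s × Fin s → B, a = fun q => g q.1 * g q.2 := ⟨_, rfl⟩
  have ha : I ^ (M + M) ≤ Ideal.span (Set.range a) := by
    rw [pow_add]
    refine (Ideal.mul_mono hgM hgM).trans ?_
    rw [Ideal.span_mul_span', Ideal.span_le]
    rintro _ ⟨_, ⟨p, rfl⟩, _, ⟨q, rfl⟩, rfl⟩
    exact Ideal.subset_span ⟨(p, q), by rw [hadef]⟩
  obtain ⟨cc, x, hcx⟩ := exists_lift I a (M + M) ha (fun q => ι (g q.1) * jj' q.2) (fun i j => by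
    have h : φ (ι (g i.2) * jj' j.2 - ι (g j.2) * jj' i.2) = 0 := by
      rw [map_sub, map_mul, map_mul, hz, hz]
      ring
    have h' := hK _ h i.1
    have h'' : ι (g j.1) * (ι (g i.1) * (ι (g i.2) * jj' j.2 - ι (g j.2) * jj' i.2)) = 0 := by
      rw [h', mul_zero]
    simp only [hadef, map_mul]
    refine sub_eq_zero.1 (Eq.trans ?_ h'')
    ring)
  let n' : N := e - φ x
  have hn' : ∀ q, φ (ι (a q)) * n' = φ (ι (cc q)) := fun q => by
    have h := congrArg φ (hcx q)
    rw [map_mul, hz, map_add, map_mul] at h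
    simp only [n', mul_sub]
    have haq : ι (a q) = ι (g q.1) * ι (g q.2) := by rw [hadef]; exact map_mul ι _ _
    rw [haq, map_mul]
    rw [show algebraMap B (AdicCompletion I B) (a q) = ι (g q.1) * ι (g q.2) from haq, map_mul] at h
    rw [mul_assoc, h]
    ring
  obtain ⟨a2, ha2def⟩ : ∃ a2 : (Fin s × Fin s) × (Fin s × Fin s) → B, a2 = fun q => a q.1 * a q.2 :=
    ⟨_, rfl⟩
  have hιa2 : ∀ q, ι (a2 q) = ι (a q.1) * ι (a q.2) := fun q => by rw [ha2def]; exact map_mul ι _ _
  have ha2 : I ^ ((M + M) + (M + M)) ≤ Ideal.span (Set.range a2) := by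
    rw [pow_add]
    refine (Ideal.mul_mono ha ha).trans ?_
    rw [Ideal.span_mul_span', Ideal.span_le]
    rintro _ ⟨_, ⟨p, rfl⟩, _, ⟨q, rfl⟩, rfl⟩
    exact Ideal.subset_span ⟨(p, q), by rw [ha2def]⟩
  -- elements of `N` in terms of `n'`
  have hspan : ∀ n : N, ∃ u v : Bh, n = φ u + φ v * n' := by
    rintro ⟨n₁, n₂⟩
    obtain ⟨u, rfl⟩ := Ideal.Quotient.mk_surjective n₁
    obtain ⟨v, rfl⟩ := Ideal.Quotient.mk_surjective n₂
    refine ⟨v + (u - v) * x, u - v, ?_⟩
    refine Prod.ext ?_ ?_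
    · show Ideal.Quotient.mk J u = Ideal.Quotient.mk J (v + (u - v) * x) +
        Ideal.Quotient.mk J (u - v) * (1 - Ideal.Quotient.mk J x)
      simp only [map_add, map_mul, map_sub]
      ring
    · show Ideal.Quotient.mk J' v = Ideal.Quotient.mk J' (v + (u - v) * x) +
        Ideal.Quotient.mk J' (u - v) * (0 - Ideal.Quotient.mk J' x)
      simp only [map_add, map_mul, map_sub]
      ring
  -- membership in the image of `B`
  have hP : ∀ w : Bh, (∀ q, ∃ b, φ (ι (a2 q) * w) = φ (ι b)) → w ∈ Set.range ι := by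
    intro w hw
    refine mem_range_of_mul_mem_range I a2 _ ha2 w fun q => ?_
    obtain ⟨b, hb⟩ := hw q
    obtain ⟨b', hb'⟩ := hKr (ι (a2 q) * w - ι b) (by rw [map_sub, hb, sub_self])
    exact ⟨b' + b, by rw [map_add]; exact (congrArg (· + ι b) hb').trans (sub_add_cancel _ _)⟩
  have hsmall : ∀ (m : ℕ), ∀ r ∈ (I ^ (m + (M + M))).map ι,
      ∃ r' ∈ (I ^ m).map ι, φ r * n' = φ r' := by
    intro m r hr
    rw [pow_add, Ideal.map_mul] at hr
    induction hr using Submodule.mul_induction_on' with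
    | mem_mul_mem u hu w hw =>
      obtain ⟨γ, hγ⟩ := mem_span_of_mem_map I a (M + M) ha hw
      refine ⟨u * ∑ j, γ j * ι (cc j), Ideal.mul_mem_right _ _ hu, ?_⟩
      rw [← hγ, map_mul, map_mul, map_sum, map_sum, mul_assoc, Finset.sum_mul]
      congr 1
      refine Finset.sum_congr rfl fun j _ => ?_
      rw [map_mul, map_mul, mul_assoc, hn' j]
    | add u _ w _ hu hw =>
      obtain ⟨u', hu', eu⟩ := hu
      obtain ⟨w', hw', ew⟩ := hw
      exact ⟨u' + w', add_mem hu' hw', by rw [map_add, add_mul, eu, ew, map_add]⟩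
  -- the square of `n'`
  obtain ⟨b₀, β₀, hsq⟩ : ∃ b β : B, n' * n' = φ (ι b) + φ (ι β) * n' := by
    obtain ⟨u, v, huv⟩ := hspan (n' * n')
    obtain ⟨β, r, hr, rfl⟩ := exists_add I (0 + (M + M)) v
    obtain ⟨r', -, hr'⟩ := hsmall 0 r hr
    have huv' : n' * n' = φ (u + r') + φ (ι β) * n' := by
      rw [huv, map_add, add_mul, hr', map_add]
      ring
    obtain ⟨b, hb⟩ := hP (u + r') fun q => by
      refine ⟨cc q.1 * cc q.2 - β * a q.1 * cc q.2, ?_⟩
      have e1 : φ (ι (a2 q)) * (n' * n') = φ (ι (cc q.1)) * φ (ι (cc q.2)) := by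
        rw [hιa2 q, map_mul, ← hn', ← hn']
        ring
      rw [huv', mul_add] at e1
      have e2 : φ (ι (a2 q)) * (φ (ι β) * n') = φ (ι β) * φ (ι (a q.1)) * φ (ι (cc q.2)) := by
        rw [hιa2 q, map_mul, ← hn']
        ring
      simp only [map_mul, map_sub] at e1 e2 ⊢
      linear_combination e1 - e2
    exact ⟨b, β, by rw [huv', hb]⟩
  -- the finite algebra
  let D₀ : Subalgebra B N := Algebra.adjoin B {n'}
  have hD₀ : ∀ d ∈ D₀, ∃ b β : B, d = φ (ι b) + φ (ι β) * n' := by
    intro d hd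
    induction hd using Algebra.adjoin_induction with
    | mem d hd => exact ⟨0, 1, by rw [Set.mem_singleton_iff.1 hd]; simp⟩
    | algebraMap b => exact ⟨b, 0, by rw [hφι]; simp⟩
    | add d d' _ _ h h' =>
      obtain ⟨b, β, rfl⟩ := h
      obtain ⟨b', β', rfl⟩ := h'
      exact ⟨b + b', β + β', by simp only [map_add]; ring⟩
    | mul d d' _ _ h h' =>
      obtain ⟨b, β, rfl⟩ := h
      obtain ⟨b', β', rfl⟩ := h'
      refine ⟨b * b' + β * β' * b₀, b * β' + b' * β + β * β' * β₀, ?_⟩
      simp only [map_add, map_mul]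
      linear_combination φ (ι β) * φ (ι β') * hsq
  have hn'mem : n' ∈ D₀ := Algebra.subset_adjoin rfl
  have hmk : ∀ b β : B, φ (ι b) + φ (ι β) * n' ∈ D₀ := fun b β => by
    rw [← hφι, ← hφι]
    exact D₀.add_mem (D₀.algebraMap_mem b) (D₀.mul_mem (D₀.algebraMap_mem β) hn'mem)
  -- comparison modulo powers of `I`
  have hNpow : ∀ m : ℕ, (I.map (algebraMap B N)) ^ m = ((I ^ m).map ι).map φ := fun m => by
    rw [← Ideal.map_pow, Ideal.map_map]
    exact congrArg (fun F => (I ^ m).map F) (IsScalarTower.algebraMap_eq B Bh N)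
  have hdense : ∀ (m : ℕ) (n : N), ∃ d : D₀, n - (d : N) ∈ (I.map (algebraMap B N)) ^ m := by
    intro m n
    obtain ⟨u, v, rfl⟩ := hspan n
    obtain ⟨b, r, hr, rfl⟩ := exists_add I m u
    obtain ⟨β, r', hr', rfl⟩ := exists_add I m v
    refine ⟨⟨_, hmk b β⟩, ?_⟩
    rw [hNpow, map_add, map_add]
    have : φ (ι b) + φ r + (φ (ι β) + φ r') * n' - (φ (ι b) + φ (ι β) * n') = φ r + φ r' * n' := by ring
    show φ (ι b) + φ r + (φ (ι β) + φ r') * n' - (φ (ι b) + φ (ι β) * n') ∈ _
    rw [this]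
    exact add_mem (Ideal.mem_map_of_mem _ hr) (Ideal.mul_mem_right _ _ (Ideal.mem_map_of_mem _ hr'))
  have hinter : ∀ (m : ℕ) (d : D₀), (d : N) ∈ (I.map (algebraMap B N)) ^ m →
      d ∈ (I.map (algebraMap B D₀)) ^ m := by
    intro m d hd
    rw [hNpow] at hd
    have hshape : ∃ u ∈ (I ^ m).map ι, ∃ v ∈ (I ^ m).map ι, (d : N) = φ u + φ v * n' := by
      have hd' : (d : N) ∈ ((I ^ m).map ι) • (⊤ : Submodule Bh N) := by
        rw [Ideal.smul_top_eq_map]
        exact hd
      refine Submodule.smul_induction_on hd' (fun u hu n _ => ?_) ?_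
      · obtain ⟨u', v', rfl⟩ := hspan n
        refine ⟨u * u', Ideal.mul_mem_right _ _ hu, u * v', Ideal.mul_mem_right _ _ hu, ?_⟩
        rw [Algebra.smul_def, map_mul, map_mul]
        show φ u * _ = _
        ring
      · rintro _ _ ⟨u, hu, v, hv, rfl⟩ ⟨u', hu', v', hv', rfl⟩
        exact ⟨u + u', add_mem hu hu', v + v', add_mem hv hv', by rw [map_add, map_add]; ring⟩
    obtain ⟨u, hu, v, hv, hduv⟩ := hshape
    obtain ⟨β, r, hr, rfl⟩ := exists_add I (m + (M + M)) v
    have hβ : β ∈ I ^ m := by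
      refine mem_pow_of_map I m ?_
      have h := sub_mem hv (Ideal.map_mono (Ideal.pow_le_pow_right (Nat.le_add_right m _)) hr)
      rwa [add_sub_cancel_right] at h
    obtain ⟨r', hr', hrn⟩ := hsmall m r hr
    rw [map_add, add_mul, hrn, ← add_assoc, add_right_comm, ← map_add] at hduv
    obtain ⟨b, β', hd2⟩ := hD₀ d d.2
    obtain ⟨b', hb'⟩ := hP (u + r') fun q => by
      refine ⟨a2 q * b + (β' - β) * a q.1 * cc q.2, ?_⟩
      have h : φ (u + r') = φ (ι b) + (φ (ι β') - φ (ι β)) * n' := by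
        linear_combination hd2 - hduv
      simp only [map_add, map_mul, map_sub, hιa2 q] at h ⊢
      linear_combination φ (ι (a q.1)) * φ (ι (a q.2)) * h + (φ (ι β') - φ (ι β)) * φ (ι (a q.1)) * hn' q.2
    have hb'm : b' ∈ I ^ m := mem_pow_of_map I m (by rw [show algebraMap B _ b' = ι b' from rfl, hb']
                                                     exact add_mem hu hr')
    have hd3 : d = algebraMap B D₀ b' + algebraMap B D₀ β * ⟨n', hn'mem⟩ := by
      refine Subtype.ext ?_
      show (d : N) = algebraMap B N b' + algebraMap B N β * n'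
      rw [hduv, hφι, hφι, hb']
    rw [hd3, ← Ideal.map_pow]
    exact add_mem (Ideal.mem_map_of_mem _ hb'm) (Ideal.mul_mem_right _ _ (Ideal.mem_map_of_mem _ hβ))
  haveI : Algebra.FiniteType B D₀ :=
    (Subalgebra.fg_iff_finiteType _).1 ⟨{n'}, by rw [Finset.coe_singleton]⟩
  -- cut out the first component
  obtain ⟨et, het⟩ := hdense 1 e
  rw [pow_one] at het
  let ψ : D₀ →+* Bh ⧸ J := (RingHom.fst (Bh ⧸ J) (Bh ⧸ J')).comp D₀.val.toRingHom
  have hψB : ∀ b, ψ (algebraMap B D₀ b) = Ideal.Quotient.mk J (ι b) := fun b => by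
    show (algebraMap B N b).1 = _
    rw [hφι, hφ]
  let IC : Ideal (Bh ⧸ J) := I.map ((Ideal.Quotient.mk J).comp ι)
  have hIC : IC = (I.map ι).map (Ideal.Quotient.mk J) := (Ideal.map_map _ _).symm
  haveI : IsAdicComplete (I.map ι) Bh := AdicCompletion.isAdicComplete_self I (IsNoetherian.noetherian I)
  haveI hcompl : IsAdicComplete IC (Bh ⧸ J) := by
    rw [hIC]
    exact (IsAdicComplete.map_algebraMap_iff (I := I.map ι) (S := Bh ⧸ J) (M := Bh ⧸ J)).2
      (AdicLib.isAdicComplete_of_finite (I.map ι) (Bh ⧸ J))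
  have hfst : ∀ (m : ℕ) (n : N), n ∈ (I.map (algebraMap B N)) ^ m → n.1 ∈ IC ^ m := fun m n hn => by
    rw [← Ideal.map_pow] at hn
    have h := Ideal.mem_map_of_mem (RingHom.fst (Bh ⧸ J) (Bh ⧸ J')) hn
    rw [Ideal.map_map] at h
    rw [← Ideal.map_pow]
    exact h
  have hetu : IsUnit (ψ et) := by
    have h := hfst 1 _ (by rw [pow_one]; exact het)
    rw [pow_one, Prod.fst_sub] at h
    have h2 := (IsAdicComplete.le_jacobson_bot IC) h
    rw [Ideal.mem_jacobson_bot] at h2
    have := h2 (-1)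
    show IsUnit (et : N).1
    simpa [e] using this
  let D := Localization.Away et
  let Φ : D →+* Bh ⧸ J := IsLocalization.Away.lift et hetu
  have hΦ : ∀ d, Φ (algebraMap D₀ D d) = ψ d := fun d => IsLocalization.Away.lift_eq et hetu d
  haveI : Algebra.FiniteType D₀ D := IsLocalization.finiteType_of_monoid_fg (.powers et) _
  refine ⟨D, inferInstance, inferInstance, Algebra.FiniteType.trans (S := D₀) inferInstance inferInstance, ?_⟩
  intro ID hID
  have hIDmap : ID.map Φ = IC := by
    rw [hID, Ideal.map_map]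
    refine congrArg (fun F => I.map F) (RingHom.ext fun b => ?_)
    show Φ (algebraMap B D b) = _
    rw [IsScalarTower.algebraMap_apply B D₀ D, hΦ, hψB]
    rfl
  haveI : IsAdicComplete (ID.map Φ) (Bh ⧸ J) := by rw [hIDmap]; exact hcompl
  have hDmap : ∀ m : ℕ, ((I.map (algebraMap B D₀)) ^ m).map (algebraMap D₀ D) = ID ^ m := fun m => by
    rw [Ideal.map_pow, Ideal.map_map, ← IsScalarTower.algebraMap_eq, hID]
  obtain ⟨E, hE⟩ := exists_equiv ID Φ (fun m q => by
      obtain ⟨d, hd⟩ := hdense m (q, 0)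
      refine ⟨algebraMap D₀ D d, ?_⟩
      rw [hΦ, hIDmap]
      have h := hfst m _ hd
      rw [Prod.fst_sub] at h
      exact h)
    (fun m w hw => by
      rw [hIDmap] at hw
      obtain ⟨k, d, hwd⟩ := IsLocalization.Away.surj et w
      have hd : ψ d ∈ IC ^ m := by
        rw [← hΦ, ← hwd, map_mul]
        exact Ideal.mul_mem_right _ _ hw
      have hu : ∀ i : ℕ, IsUnit (algebraMap D₀ D et ^ i) := fun i =>
        (IsLocalization.Away.algebraMap_isUnit et).pow i
      rw [← Ideal.unit_mul_mem_iff_mem _ ((hu k).mul (hu m))]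
      have h : algebraMap D₀ D (et ^ m * d) ∈ ID ^ m := by
        rw [← hDmap]
        refine Ideal.mem_map_of_mem _ (hinter m _ ?_)
        -- both components are small
        let IC' : Ideal (Bh ⧸ J') := I.map ((Ideal.Quotient.mk J').comp ι)
        have hsnd : (et : N).2 ∈ IC' := by
          have h := Ideal.mem_map_of_mem (RingHom.snd (Bh ⧸ J) (Bh ⧸ J')) het
          rw [Ideal.map_map] at h
          have h' : (e - (et : N)).2 ∈ IC' := h
          rw [Prod.snd_sub] at h'
          have := neg_mem h'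
          simpa [e] using this
        have h1 : ((et ^ m * d : D₀) : N).1 ∈ IC ^ m := Ideal.mul_mem_left _ _ hd
        have h2 : ((et ^ m * d : D₀) : N).2 ∈ IC' ^ m :=
          Ideal.mul_mem_right _ _ (Ideal.pow_mem_pow hsnd m)
        rw [← Ideal.map_pow, ← Ideal.map_map, Ideal.mem_map_iff_of_surjective _ Ideal.Quotient.mk_surjective]
          at h1 h2
        obtain ⟨p, hp, hp1⟩ := h1
        obtain ⟨q, hq, hq1⟩ := h2
        have he' : ((et ^ m * d : D₀) : N) = φ p * e + φ q * (1 - e) := by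
          refine Prod.ext ?_ ?_
          · show ((et ^ m * d : D₀) : N).1 =
              Ideal.Quotient.mk J p * 1 + Ideal.Quotient.mk J q * (1 - 1)
            rw [sub_self, mul_zero, add_zero, mul_one, hp1]
          · show ((et ^ m * d : D₀) : N).2 =
              Ideal.Quotient.mk J' p * 0 + Ideal.Quotient.mk J' q * (1 - 0)
            rw [sub_zero, mul_one, mul_zero, zero_add, hq1]
        rw [he', hNpow]
        exact add_mem (Ideal.mul_mem_right _ _ (Ideal.mem_map_of_mem _ hp))
          (Ideal.mul_mem_right _ _ (Ideal.mem_map_of_mem _ hq))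
      have e2 : algebraMap D₀ D et ^ k * algebraMap D₀ D et ^ m * w =
          algebraMap D₀ D (et ^ m * d) := by
        rw [map_mul, ← hwd, map_pow]
        ring
      rwa [e2])
  refine ⟨(RingHom.quotientKerEquivOfSurjective hπ).symm.trans E, fun b => ?_⟩
  have h1 : (RingHom.quotientKerEquivOfSurjective hπ).symm (π (algebraMap B _ b)) =
      Ideal.Quotient.mk J (ι b) := by
    rw [RingEquiv.symm_apply_eq]
    rfl
  rw [RingEquiv.trans_apply, h1, ← hψB, ← hΦ, hE, ← IsScalarTower.algebraMap_apply B D₀ D]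

end Groth.Agent.ConormalAlgz
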